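import Cfsg.Agent.Lib.Fusion.GroupSys2
import Cfsg.Prelude.Def_FusionReduction

/-! Section-freeness. -/

set_option autoImplicit false

namespace CfsgLib.Fusion

open Subgroup Cfsg Cfsg.FusionSystem

universe u

/-- A surjection from a group embedded in `S` shows `Q` is involved in `S`. -/
theorem involves_of_surj_inj {W Q S : Type*} [Group W] [Group Q] [Group S] (f : W →* Q)
    (hf : Function.Surjective f) (j : W →* S) (hj : Function.Injective j) : Involves Q S := by
  let K : Subgroup S := j.range
  let R : Subgroup S := f.ker.map j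
  let e : W ≃* K := MonoidHom.ofInjective hj
  let g : K →* Q := f.comp e.symm.toMonoidHom
  have hg : Function.Surjective g := hf.comp e.symm.surjective
  have hker : g.ker = R.subgroupOf K := by
    ext x
    obtain ⟨w, rfl⟩ := e.surjective x
    constructor
    · intro h
      have h1 : f w = 1 := by
        have : g (e w) = f w := by simp [g]
        rw [← this]; exact h
      exact mem_subgroupOf.mpr ⟨w, h1, rfl⟩
    · intro h
      obtain ⟨w', hw', hw'e⟩ := mem_subgroupOf.mp h
      have : w' = w := hj hw'e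
      rw [MonoidHom.mem_ker]
      show f (e.symm (e w)) = 1
      rw [e.symm_apply_apply, ← this]
      exact hw'
  have hn : (R.subgroupOf K).Normal := by
    rw [← hker]; infer_instance
  refine ⟨K, R, hn, ⟨(QuotientGroup.quotientMulEquivOfEq hker.symm).trans
    (QuotientGroup.quotientKerEquivOfSurjective g hg)⟩⟩

/-- **S5299**. -/
theorem isSectionFree_of_not_involves {Ω : Type u} [Group Ω] {S : Subgroup Ω} [Finite S] {p : ℕ} [Fact p.Prime]
    (F : FusionSystem S) (H : Type*) [Group H] [Finite H] (Q : Subgroup H) (hQ : IsPGroup p Q)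
    (hfree : ¬ Involves (↥Q) (↥S)) : F.IsSectionFree p H := by
  intro Q' _ _ N _ L _ ι hm hinv
  obtain ⟨hfin, ⟨hιinj, -⟩, ⟨T, hT⟩, -⟩ := hm
  obtain ⟨K, R, hRn, ⟨e⟩⟩ := hinv
  let π : K →* H := e.toMonoidHom.comp (QuotientGroup.mk' (R.subgroupOf K))
  have hπ : Function.Surjective π := e.surjective.comp (QuotientGroup.mk'_surjective _)
  let π₁ : ↥(Q.comap π) →* Q := π.subgroupComap Q
  have hπ₁ : Function.Surjective π₁ := π.subgroupComap_surjective_of_surjective Q hπ
  let W₀ : Sylow p ↥(Q.comap π) := Classical.choice inferInstance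
  have hW : (W₀ : Subgroup ↥(Q.comap π)).map π₁ = ⊤ := by
    have h1 := (W₀.mapSurjective hπ₁).3 (hQ.of_equiv Subgroup.topEquiv.symm) le_top
    rw [h1, Sylow.coe_mapSurjective]
  let f : (W₀ : Subgroup ↥(Q.comap π)) →* Q := π₁.comp (W₀ : Subgroup ↥(Q.comap π)).subtype
  have hf : Function.Surjective f := by
    intro q
    have hq : q ∈ (W₀ : Subgroup ↥(Q.comap π)).map π₁ := by rw [hW]; exact mem_top _
    obtain ⟨w, hw, rfl⟩ := hq
    exact ⟨⟨w, hw⟩, rfl⟩
  let m : (W₀ : Subgroup ↥(Q.comap π)) →* L :=
    K.subtype.comp ((Q.comap π).subtype.comp (W₀ : Subgroup ↥(Q.comap π)).subtype)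
  have hmi : Function.Injective m := by
    intro a b hab
    exact Subtype.ext (Subtype.ext (Subtype.ext hab))
  have hWp : IsPGroup p m.range := W₀.2.of_surjective m.rangeRestrict (MonoidHom.rangeRestrict_surjective _)
  obtain ⟨x, hx⟩ := exists_conj_le_sylow T hWp
  rw [hT] at hx
  let c : (W₀ : Subgroup ↥(Q.comap π)) →* L := (MulAut.conj x).toMonoidHom.comp m
  have hc : ∀ w, c w ∈ ι.range := fun w => hx ⟨m w, ⟨w, rfl⟩, rfl⟩
  let j : (W₀ : Subgroup ↥(Q.comap π)) →* S :=
    (Subgroup.inclusion (inf_le_left : normalizerIn S Q' ≤ S)).comp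
      ((MonoidHom.ofInjective hιinj).symm.toMonoidHom.comp (c.codRestrict ι.range hc))
  have hj : Function.Injective j := by
    intro a b hab
    have h1 := Subgroup.inclusion_injective (inf_le_left : normalizerIn S Q' ≤ S) hab
    have h2 := (MonoidHom.ofInjective hιinj).symm.injective h1
    have h3 : c a = c b := congrArg Subtype.val h2
    exact hmi ((MulAut.conj x).injective h3)
  exact hfree (involves_of_surj_inj f hf j hj)

end CfsgLib.Fusion
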