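import Cfsg.Agent.Lib.Fusion.Small2
import Cfsg.Agent.Lib.Fusion.Alperin2

/-! Control of small elements of the hyperfocal and focal subgroups. -/

set_option autoImplicit false

namespace CfsgLib.Fusion

open Subgroup Cfsg Cfsg.FusionSystem
open scoped commutatorElement

variable {Ω : Type*} [Group Ω] {S : Subgroup Ω} {p : ℕ} [hp : Fact p.Prime]

omit [Group Ω] in
theorem exists_small_exponent (p : ℕ) [hp : Fact p.Prime] :
    ∃ e f : ℕ, f ≠ 0 ∧ e = p ^ f ∧ p ∣ e.choose 2 ∧ (p ≠ 2 → e = p) ∧ (p = 2 → e = 4) := by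
  by_cases h : p = 2
  · subst h
    exact ⟨4, 2, two_ne_zero, rfl, by decide, fun h => absurd rfl h, fun _ => rfl⟩
  · refine ⟨p, 1, one_ne_zero, (pow_one p).symm, ?_, fun _ => rfl, fun h' => absurd h' h⟩
    exact hp.out.dvd_choose_self (k := 2) (by norm_num) (lt_of_le_of_ne hp.out.two_le (Ne.symm h))

/-- The orders of elements with `x ^ e = 1`. -/
theorem order_of_small {G : Type*} [Group G] {e : ℕ} (h1 : p ≠ 2 → e = p) (h2 : p = 2 → e = 4) {x : G}
    (hx : x ^ e = 1) (hne : x ≠ 1) : orderOf x = p ∨ orderOf x = 4 := by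
  have hd := orderOf_dvd_of_pow_eq_one hx
  have hne' : orderOf x ≠ 1 := fun h => hne (orderOf_eq_one_iff.mp h)
  by_cases hp2 : p = 2
  · rw [h2 hp2] at hd
    have h4 : orderOf x ∣ 2 ^ 2 := by simpa using hd
    obtain ⟨k, hk, hk'⟩ := (Nat.dvd_prime_pow Nat.prime_two).mp h4
    interval_cases k
    · simp at hk'; exact absurd hk' hne
    · left; rw [hk', hp2]; norm_num
    · right; rw [hk']; norm_num
  · rw [h1 hp2] at hd
    rcases (Nat.dvd_prime hp.out).mp hd with h | h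
    · exact absurd h hne'
    · exact Or.inl h

/-- The small subgroup of `R` inside the hyperfocal subgroup. -/
theorem small_hyper [Finite S] (hS : IsPGroup p S) (F : FusionSystem S) (hF : F.IsSaturated p) {R : Subgroup Ω}
    (hRS : R ≤ S) {e f : ℕ} (hf : f ≠ 0) (he : e = p ^ f) (hc : p ∣ e.choose 2) :
    ∃ H' : Subgroup R, (∀ x ∈ H', (x : Ω) ∈ F.hyperfocalSubgroup p) ∧ (∀ x ∈ H', x ^ e = 1) ∧
      (∀ γ ∈ F.autGroup R, ∀ x ∈ H', γ x ∈ H') ∧
      ∀ β ∈ F.autGroup R, (orderOf β).Coprime p → (∀ x ∈ H', β x = x) → β = 1 := by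
  have hsc := stronglyClosed_hyperfocal hS F hF
  obtain ⟨H', hH'T, hH'e, hH'inv, hH'triv⟩ := small_in_aut hS F hRS ((F.hyperfocalSubgroup p).subgroupOf R)
    (fun γ hγ x hx => mem_subgroupOf.mpr (aut_mem_of_stronglyClosed F hsc hRS hγ (mem_subgroupOf.mp hx))) hf he hc
  refine ⟨H', fun x hx => mem_subgroupOf.mp (hH'T hx), hH'e, hH'inv, fun β hβ hcop hfix => ?_⟩
  refine hH'triv β hβ hcop (fun x => mem_subgroupOf.mpr ?_) hfix
  have hres : (⟨β, hβ⟩ : F.autGroup R) ∈ pResidual p (F.autGroup R) := by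
    refine subset_closure ?_
    show (orderOf (⟨β, hβ⟩ : F.autGroup R)).Coprime p
    rw [Subgroup.orderOf_mk]
    exact hcop
  have := hyperfocal_mem F hRS hres x
  simpa using this

/-- The upper central series of `S`, in the ambient group. -/
def upperIn (S : Subgroup Ω) (j : ℕ) : Subgroup Ω := (Subgroup.upperCentralSeries S j).map S.subtype

theorem upperIn_zero : upperIn S 0 = ⊥ := by
  simp [upperIn]

theorem upperIn_mono : Monotone (upperIn S) := fun _ _ hab => map_mono (Subgroup.upperCentralSeries_mono S hab)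

theorem upperIn_le (j : ℕ) : upperIn S j ≤ S := by
  rintro _ ⟨x, -, rfl⟩
  exact x.2

theorem exists_upperIn_top [Finite S] (hS : IsPGroup p S) : ∃ m, upperIn S m = S := by
  have hn : Group.IsNilpotent S := hS.isNilpotent
  obtain ⟨m, hm⟩ := Group.IsNilpotent.nilpotent S
  refine ⟨m, ?_⟩
  unfold upperIn
  rw [hm, ← MonoidHom.range_eq_map, range_subtype]

theorem upperIn_aut [Finite S] (j : ℕ) (δ : MulAut S) {y : S} (hy : (y : Ω) ∈ upperIn S j) : ((δ y : S) : Ω) ∈ upperIn S j := by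
  obtain ⟨z, hz, hze⟩ := hy
  have e : z = y := Subtype.ext hze
  subst e
  have hchar : (Subgroup.upperCentralSeries S j).Characteristic := Subgroup.instCharacteristicUpperCentralSeries S j
  exact ⟨_, (CfsgLib.Trans.char_conj_mem hchar δ).2 hz, rfl⟩

theorem upperIn_comm (j : ℕ) {x s : Ω} (hx : x ∈ upperIn S (j + 1)) (hs : s ∈ S) : x⁻¹ * (s * x * s⁻¹) ∈ upperIn S j := by
  obtain ⟨z, hz, rfl⟩ := hx
  have h1 : z⁻¹ ∈ Subgroup.upperCentralSeries S (j + 1) := inv_mem hz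
  have h2 := Subgroup.mem_upperCentralSeries_succ_iff.mp h1 ⟨s, hs⟩
  rw [commutatorElement_def] at h2
  refine ⟨_, h2, ?_⟩
  simp only [Subgroup.coe_subtype, Subgroup.coe_mul, Subgroup.coe_inv, inv_inv]
  group

/-- A small cyclic subgroup gives a map between cyclic subgroups. -/
theorem small_zpowers_hom [Finite S] (F : FusionSystem S) {R : Subgroup Ω} (hRS : R ≤ S) {γ : MulAut R}
    (hγ : γ ∈ F.autGroup R) (x : R) :
    ∃ (hA : zpowers (x : Ω) ≤ R) (φ₀ : ↥(zpowers (x : Ω)) →* Ω),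
      φ₀ ∈ F.homSet (zpowers (x : Ω)) (zpowers ((γ x : R) : Ω)) ∧
        ∀ y : ↥(zpowers (x : Ω)), φ₀ y = ((γ (Subgroup.inclusion hA y) : R) : Ω) := by
  have hA : zpowers (x : Ω) ≤ R := (zpowers_le).mpr x.2
  refine ⟨hA, (R.subtype.comp γ.toMonoidHom).comp (Subgroup.inclusion hA),
    ⟨restrict_mem F ((mem_autGroup_iff F hRS).mp hγ) hA, fun y => ?_⟩, fun y => rfl⟩
  obtain ⟨k, hk⟩ := mem_zpowers_iff.mp y.2
  have e : Subgroup.inclusion hA y = x ^ k := Subtype.ext (by simpa using hk.symm)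
  show ((γ (Subgroup.inclusion hA y) : R) : Ω) ∈ _
  rw [e, map_zpow]
  exact mem_zpowers_iff.mpr ⟨k, by simp⟩

theorem exists_aut_of_normalizerHom [Finite S] (F : FusionSystem S) {A₀ : Subgroup Ω} (hA₀ : A₀ ≤ S) {φ : A₀ →* Ω}
    (h : φ ∈ F.normalizerHom S A₀) : ∃ δ : MulAut S, ∀ y : A₀, ((δ ⟨y, hA₀ y.2⟩ : S) : Ω) = φ y := by
  obtain ⟨-, -, -, ψ, hψ, hext, hmap⟩ := h
  have hval : ∀ x : S, ψ (Subgroup.inclusion le_sup_right x) ∈ S := by
    intro x
    have : ψ (Subgroup.inclusion le_sup_right x) ∈ (S.subgroupOf (A₀ ⊔ S)).map ψ :=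
      ⟨_, mem_subgroupOf.mpr x.2, rfl⟩
    rwa [hmap] at this
  let g : S →* S := (ψ.comp (Subgroup.inclusion le_sup_right)).codRestrict S hval
  have hg : Function.Injective g := by
    intro a b hab
    have h1 : ψ (Subgroup.inclusion le_sup_right a) = ψ (Subgroup.inclusion le_sup_right b) :=
      congrArg Subtype.val hab
    exact Subgroup.inclusion_injective _ (F.injective_of_mem hψ h1)
  refine ⟨MulEquiv.ofBijective g (Finite.injective_iff_bijective.mp hg), fun y => ?_⟩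
  rw [← hext y]
  rfl

/-- The chain of small elements along the upper central series of `S`. -/
theorem small_chain [Finite S] (hS : IsPGroup p S) (F : FusionSystem S) {R : Subgroup Ω} (hRS : R ≤ S)
    (H' : Subgroup R) (hinv : ∀ γ ∈ F.autGroup R, ∀ x ∈ H', γ x ∈ H')
    (hδ : ∀ x ∈ H', ∀ γ ∈ F.autGroup R, ∃ δ : MulAut S, ((δ ⟨x, hRS x.2⟩ : S) : Ω) = ((γ x : R) : Ω)) :
    ∃ (m : ℕ) (D : ℕ → Subgroup R) (_ : Monotone D), D 0 = ⊥ ∧ D m = H' ∧ (∀ j, D j ≤ H') ∧
      (∀ γ ∈ F.autGroup R, ∀ j, ∀ x ∈ D j, γ x ∈ D j) ∧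
      (∀ j, ∀ x ∈ D (j + 1), ∀ y ∈ H', ∀ s ∈ S, (y : Ω) = s * (x : Ω) * s⁻¹ → x⁻¹ * y ∈ D j) := by
  obtain ⟨m, hm⟩ := exists_upperIn_top hS
  refine ⟨m, fun j => H' ⊓ (upperIn S j).subgroupOf R, fun a b hab => inf_le_inf_left _ (fun x hx =>
    mem_subgroupOf.mpr (upperIn_mono hab (mem_subgroupOf.mp hx))), ?_, ?_, fun j => inf_le_left, ?_, ?_⟩
  · show H' ⊓ (upperIn S 0).subgroupOf R = ⊥
    rw [upperIn_zero]
    simp
  · show H' ⊓ (upperIn S m).subgroupOf R = H'
    rw [hm, inf_eq_left]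
    intro x _
    exact mem_subgroupOf.mpr (hRS x.2)
  · rintro γ hγ j x ⟨hx1, hx2⟩
    refine ⟨hinv γ hγ x hx1, mem_subgroupOf.mpr ?_⟩
    obtain ⟨δ, hδe⟩ := hδ x hx1 γ hγ
    rw [← hδe]
    exact upperIn_aut j δ (mem_subgroupOf.mp hx2)
  · rintro j x ⟨hx1, hx2⟩ y hy s hs hyx
    refine ⟨H'.mul_mem (H'.inv_mem hx1) hy, mem_subgroupOf.mpr ?_⟩
    have h1 := upperIn_comm j (mem_subgroupOf.mp hx2) hs
    rw [← hyx] at h1
    simpa using h1

/-- Maps from `small` hypothesis to automorphisms of `S`: the normalizer form. -/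
theorem small_delta_normalizer [Finite S] (F : FusionSystem S) (h : ∀ A B : Subgroup Ω, A ≤ (F.hyperfocalSubgroup p) →
      B ≤ (F.hyperfocalSubgroup p) → IsCyclic ↥A → (Nat.card ↥A = p ∨ Nat.card ↥A = 4) → IsCyclic ↥B →
      (Nat.card ↥B = p ∨ Nat.card ↥B = 4) → F.homSet A B ⊆ F.normalizerHom S A) {R : Subgroup Ω} (hRS : R ≤ S)
    {e : ℕ} (h1 : p ≠ 2 → e = p) (h2 : p = 2 → e = 4) (H' : Subgroup R)
    (hhyp : ∀ x ∈ H', (x : Ω) ∈ F.hyperfocalSubgroup p) (hsm : ∀ x ∈ H', x ^ e = 1)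
    (hinv : ∀ γ ∈ F.autGroup R, ∀ x ∈ H', γ x ∈ H') :
    ∀ x ∈ H', ∀ γ ∈ F.autGroup R, ∃ δ : MulAut S, ((δ ⟨x, hRS x.2⟩ : S) : Ω) = ((γ x : R) : Ω) := by
  intro x hx γ hγ
  by_cases hne : x = 1
  · subst hne
    refine ⟨1, ?_⟩
    rw [map_one]
    rfl
  obtain ⟨hA, φ₀, hφ₀, hφ₀e⟩ := small_zpowers_hom F hRS hγ x
  have hord : orderOf (x : Ω) = p ∨ orderOf (x : Ω) = 4 := by
    rw [Subgroup.orderOf_coe]
    exact order_of_small h1 h2 (hsm x hx) hne
  have hord' : orderOf ((γ x : R) : Ω) = orderOf (x : Ω) := by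
    rw [Subgroup.orderOf_coe, Subgroup.orderOf_coe, MulEquiv.orderOf_eq]
  have h3 := h (zpowers (x : Ω)) (zpowers ((γ x : R) : Ω)) ((zpowers_le).mpr (hhyp x hx))
    ((zpowers_le).mpr (hhyp _ (hinv γ hγ x hx))) inferInstance (by rwa [Nat.card_zpowers]) inferInstance
    (by rwa [Nat.card_zpowers, hord']) hφ₀
  obtain ⟨δ, hδ⟩ := exists_aut_of_normalizerHom F (hA.trans hRS) h3
  refine ⟨δ, ?_⟩
  have h4 := hδ ⟨x, mem_zpowers _⟩
  rw [hφ₀e] at h4
  exact h4

/-- **S5297**. -/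
theorem isNormal_source_of_small [Finite S] (hS : IsPGroup p S) (F : FusionSystem S) (hF : F.IsSaturated p)
    (h : ∀ A B : Subgroup Ω, A ≤ (F.hyperfocalSubgroup p) → B ≤ (F.hyperfocalSubgroup p) → IsCyclic ↥A →
      (Nat.card ↥A = p ∨ Nat.card ↥A = 4) → IsCyclic ↥B → (Nat.card ↥B = p ∨ Nat.card ↥B = 4) →
      F.homSet A B ⊆ F.normalizerHom S A) : F.IsNormal S := by
  refine (isNormal_iff_stronglyClosed_le hS F hF S).mpr ⟨⟨le_rfl, fun R _ φ hφ x => (F.le_of_mem hφ).2 x⟩, fun R hC hR => ?_⟩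
  have hRS : R ≤ S := hC.1
  have : Finite R := finite_of_le hRS
  have hRp : IsPGroup p R := hS.to_le hRS
  obtain ⟨e, f, hf, he, hc, h1, h2⟩ := exists_small_exponent p
  obtain ⟨H', hhyp, hsm, hinv, htriv⟩ := small_hyper hS F hF hRS hf he hc
  obtain ⟨m, D, hmono, h0, hm, hDle, hDinv, hDstab⟩ := small_chain hS F hRS H' hinv
    (small_delta_normalizer F h hRS h1 h2 H' hhyp hsm hinv)
  by_contra hnot
  have hlt : R < S := lt_of_le_of_ne hRS (fun e => hnot e.ge)
  obtain ⟨w, hw, hwR⟩ := exists_normalizer_gt hS hlt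
  refine hwR (mem_of_normal_coprime hS F hC hR (stabGroup D m hmono) ?_ ?_ hw.1 hw.2 ?_)
  · intro γ hγ β hβ
    exact stabGroup_conj (hDinv γ hγ) (hDinv γ⁻¹ (inv_mem hγ)) hβ
  · intro β hβ hβA hcop
    have hfix := fix_of_stab_chain hRp D m h0 β (orderOf β) (pow_orderOf_eq_one β) hcop
      (fun j hj x hx => (hβ j hj x hx).1)
    refine htriv β hβA hcop fun x hx => hfix m le_rfl x ?_
    rw [hm]
    exact hx
  · refine mem_stabGroup_of_forward fun j _ x hx => ?_
    have hcw : conjAut hw.2 ∈ F.autGroup R := autInducedBy_le_autGroup F hRS (conjAut_mem_autInducedBy hw.2 hw.1)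
    exact hDstab j x hx _ (hinv _ hcw x (hDle _ hx)) w hw.1 rfl

/-- **S5298**. -/
theorem eq_inner_of_small [Finite S] (hS : IsPGroup p S) (F : FusionSystem S) (hF : F.IsSaturated p)
    (h : ∀ A B : Subgroup Ω, A ≤ (F.hyperfocalSubgroup p) → B ≤ (F.hyperfocalSubgroup p) → IsCyclic ↥A →
      (Nat.card ↥A = p ∨ Nat.card ↥A = 4) → IsCyclic ↥B → (Nat.card ↥B = p ∨ Nat.card ↥B = 4) →
      F.homSet A B ⊆ (innerFusionSystem S).Hom A) (P : Subgroup Ω) : F.Hom P = (innerFusionSystem S).Hom P := by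
  suffices hF' : F = innerFusionSystem S by rw [hF']
  refine eq_inner_of_pGroup hS F hF fun R hRS => ?_
  have : Finite R := finite_of_le hRS
  have : Finite (MulAut R) := finite_mulAut R
  have hRp : IsPGroup p R := hS.to_le hRS
  obtain ⟨e, f, hf, he, hc, h1, h2⟩ := exists_small_exponent p
  obtain ⟨H', hhyp, hsm, hinv, htriv⟩ := small_hyper hS F hF hRS hf he hc
  have hconj : ∀ x ∈ H', ∀ γ ∈ F.autGroup R, ∃ s ∈ S, ((γ x : R) : Ω) = s * (x : Ω) * s⁻¹ := by
    intro x hx γ hγ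
    by_cases hne : x = 1
    · subst hne
      exact ⟨1, S.one_mem, by simp⟩
    obtain ⟨hA, φ₀, hφ₀, hφ₀e⟩ := small_zpowers_hom F hRS hγ x
    have hord : orderOf (x : Ω) = p ∨ orderOf (x : Ω) = 4 := by
      rw [Subgroup.orderOf_coe]
      exact order_of_small h1 h2 (hsm x hx) hne
    have hord' : orderOf ((γ x : R) : Ω) = orderOf (x : Ω) := by
      rw [Subgroup.orderOf_coe, Subgroup.orderOf_coe, MulEquiv.orderOf_eq]
    have h3 := h (zpowers (x : Ω)) (zpowers ((γ x : R) : Ω)) ((zpowers_le).mpr (hhyp x hx))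
      ((zpowers_le).mpr (hhyp _ (hinv γ hγ x hx))) inferInstance (by rwa [Nat.card_zpowers]) inferInstance
      (by rwa [Nat.card_zpowers, hord']) hφ₀
    obtain ⟨-, g, hg, hge⟩ := h3
    refine ⟨g, hg, ?_⟩
    have h4 := hge ⟨x, mem_zpowers _⟩
    rw [hφ₀e] at h4
    exact h4
  obtain ⟨m, D, hmono, h0, hm, hDle, hDinv, hDstab⟩ := small_chain hS F hRS H' hinv (by
    intro x hx γ hγ
    obtain ⟨s, hs, hse⟩ := hconj x hx γ hγ
    refine ⟨MulAut.conj (⟨s, hs⟩ : S), ?_⟩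
    rw [hse]
    simp [MulAut.conj_apply])
  have hall : ∀ α ∈ F.autGroup R, α ∈ stabGroup D m hmono := by
    intro α hα
    refine mem_stabGroup_of_forward fun j _ x hx => ?_
    obtain ⟨s, hs, hse⟩ := hconj x (hDle _ hx) α hα
    exact hDstab j x hx _ (hinv α hα x (hDle _ hx)) s hs hse
  have hcop : ∀ β ∈ F.autGroup R, (orderOf β).Coprime p → β = 1 := by
    intro β hβ hcop
    have hfix := fix_of_stab_chain hRp D m h0 β (orderOf β) (pow_orderOf_eq_one β) hcop
      (fun j hj x hx => (hall β hβ j hj x hx).1)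
    refine htriv β hβ hcop fun x hx => hfix m le_rfl x ?_
    rw [hm]
    exact hx
  rintro ⟨β, hβA⟩
  have hne : orderOf β ≠ 0 := (orderOf_pos β).ne'
  obtain ⟨a, k, hk, hord⟩ := Nat.exists_eq_pow_mul_and_not_dvd hne p hp.out.ne_one
  have h3 : β ^ p ^ a = 1 := by
    refine hcop _ (pow_mem hβA _) ?_
    have h4 : (β ^ p ^ a) ^ k = 1 := by
      rw [← pow_mul, ← hord, pow_orderOf_eq_one]
    exact Nat.Coprime.coprime_dvd_left (orderOf_dvd_of_pow_eq_one h4)
      ((Nat.Prime.coprime_iff_not_dvd hp.out).mpr hk).symm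
  refine ⟨a, Subtype.ext ?_⟩
  simpa using h3

theorem stronglyClosed_focal [Finite S] (F : FusionSystem S) : F.StronglyClosed F.focalSubgroup := by
  have hle : F.focalSubgroup ≤ S := by
    refine (closure_le _).mpr ?_
    rintro _ ⟨P, φ, x, hφ, rfl⟩
    exact S.mul_mem (S.inv_mem (source_le F hφ x.2)) ((F.le_of_mem hφ).2 x)
  refine ⟨hle, fun R hR φ hφ x => ?_⟩
  have h1 : (x : Ω)⁻¹ * φ x ∈ F.focalSubgroup := subset_closure ⟨R, φ, x, hφ, rfl⟩
  have h2 := mul_mem (hR x.2) h1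
  simpa using h2

/-- A `p`-element normalizing a subgroup of order `p` centralizes it. -/
theorem conj_eq_of_prime_order {x w : Ω} (hx : x ^ p = 1) {a : ℕ} (hw : w ^ p ^ a = 1)
    (hn : w * x * w⁻¹ ∈ zpowers x) : w * x * w⁻¹ = x := by
  by_cases hx1 : x = 1
  · subst hx1; simp
  have hord : orderOf x = p := orderOf_eq_prime hx hx1
  obtain ⟨k, hk⟩ := mem_zpowers_iff.mp hn
  have hpow : ∀ n : ℕ, w ^ n * x * (w ^ n)⁻¹ = x ^ (k ^ n) := by
    intro n
    induction n with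
    | zero => simp
    | succ n ih =>
      have : w ^ (n + 1) * x * (w ^ (n + 1))⁻¹ = w * (w ^ n * x * (w ^ n)⁻¹) * w⁻¹ := by
        rw [pow_succ']
        group
      rw [this, ih]
      have h2 : w * x ^ (k ^ n) * w⁻¹ = (w * x * w⁻¹) ^ (k ^ n) := by
        rw [conj_zpow]
      rw [h2, ← hk, ← zpow_mul, pow_succ']
  have h3 := hpow (p ^ a)
  rw [hw] at h3
  simp only [one_mul, inv_one, mul_one] at h3
  -- Fermat
  have hfermat : ∀ b : ℕ, ((k ^ (p ^ b) : ℤ) : ZMod p) = (k : ZMod p) := by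
    intro b
    push_cast
    induction b with
    | zero => simp
    | succ b ih =>
      rw [pow_succ, pow_mul, ih, ZMod.pow_card]
  have h4 : x ^ (k ^ (p ^ a)) = x ^ k := by
    rw [zpow_eq_zpow_iff_modEq, hord]
    exact (ZMod.intCast_eq_intCast_iff _ _ _).mp (hfermat a)
  rw [← hk, ← h4]
  exact h3.symm

/-- In a group, for `β` of odd order acting on elements `x` with `x ^ 4 = 1` by `β x ∈ ⟨x⟩`, `β` fixes `x`. -/
theorem fix_of_odd_of_zpowers {G : Type*} [Group G] (β : MulAut G) (hodd : (orderOf β).Coprime 2) {x : G} (hx : x ^ 4 = 1)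
    (hβ : β x ∈ zpowers x) : β x = x := by
  obtain ⟨k, hk⟩ := mem_zpowers_iff.mp hβ
  have hinj : ∀ y : G, β y = 1 → y = 1 := fun y hy => (map_eq_one_iff β β.injective).mp hy
  have hr : x ^ k = x ^ (k % 4) := by
    conv_lhs => rw [← Int.mul_ediv_add_emod k 4]
    rw [zpow_add, zpow_mul]
    have : x ^ (4 : ℤ) = 1 := by exact_mod_cast hx
    rw [this, one_zpow, one_mul]
  have h0 : 0 ≤ k % 4 := Int.emod_nonneg _ (by norm_num)
  have h1 : k % 4 < 4 := Int.emod_lt_of_pos _ (by norm_num)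
  have hb0 : β x = x ^ (k % 4) := by
    rw [← hk]
    exact hr
  have hsq : β (β x) = x := by
    generalize k % 4 = r at hb0 h0 h1
    interval_cases r
    · have hb : β x = 1 := by simpa using hb0
      have hx1 := hinj x hb
      subst hx1
      simp
    · have hb : β x = x := by simpa using hb0
      rw [hb, hb]
    · have hb : β x = x ^ 2 := by simpa [zpow_ofNat] using hb0
      have h2 : β (β x) = 1 := by
        rw [hb, map_pow, hb, ← pow_mul]
        exact hx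
      have h3 := hinj _ h2
      have h4 := hinj _ h3
      subst h4
      simp
    · have hb : β x = x ^ 3 := by simpa [zpow_ofNat] using hb0
      have h2 : β (β x) = x ^ 9 := by
        rw [hb, map_pow, hb, ← pow_mul]
      rw [h2]
      have : x ^ 9 = (x ^ 4) ^ 2 * x := by group
      rw [this, hx]
      simp
  have hpow : ∀ t : ℕ, (β ^ (2 * t)) x = x := by
    intro t
    induction t with
    | zero => simp
    | succ t ih =>
      have : β ^ (2 * (t + 1)) = β ^ 2 * β ^ (2 * t) := by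
        rw [mul_add, mul_one, add_comm, pow_add]
      rw [this, MulAut.mul_apply, ih, pow_two, MulAut.mul_apply, hsq]
  have hodd' : Odd (orderOf β) := Nat.Coprime.odd_of_right hodd
  obtain ⟨t, ht⟩ := hodd'
  have h1' : (β ^ (2 * t + 1)) x = x := by
    rw [← ht, pow_orderOf_eq_one]
    rfl
  rw [pow_succ', MulAut.mul_apply, hpow] at h1'
  exact h1'

/-- The inverse of the conjugation automorphism. -/
theorem conjAut_inv {P : Subgroup Ω} {g : Ω} (hg : g ∈ normalizer (P : Set Ω)) :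
    (conjAut hg)⁻¹ = conjAut (inv_mem hg) :=
  (map_inv P.normalizerMonoidHom ⟨g, hg⟩).symm

/-- **S5300**. -/
theorem isNormal_source_of_focal [Finite S] (hS : IsPGroup p S) (F : FusionSystem S) (hF : F.IsSaturated p)
    (hnorm : ∀ x ∈ F.focalSubgroup, (x ^ p = 1 ∨ (p = 2 ∧ x ^ 4 = 1)) → ∀ s ∈ S, s * x * s⁻¹ ∈ zpowers x) :
    F.IsNormal S := by
  refine (isNormal_iff_stronglyClosed_le hS F hF S).mpr ⟨⟨le_rfl, fun R _ φ hφ x => (F.le_of_mem hφ).2 x⟩, fun R hC hR => ?_⟩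
  have hRS : R ≤ S := hC.1
  have : Finite R := finite_of_le hRS
  have hRp : IsPGroup p R := hS.to_le hRS
  obtain ⟨e, f, hf, he, hc, h1, h2⟩ := exists_small_exponent p
  have hsc := stronglyClosed_focal F
  obtain ⟨H', hH'T, hsm, hinv, htriv⟩ := small_in_aut hS F hRS (F.focalSubgroup.subgroupOf R)
    (fun γ hγ x hx => mem_subgroupOf.mpr (aut_mem_of_stronglyClosed F hsc hRS hγ (mem_subgroupOf.mp hx))) hf he hc
  have hcomm : ∀ β ∈ F.autGroup R, ∀ x : R, x⁻¹ * β x ∈ F.focalSubgroup.subgroupOf R := by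
    intro β hβ x
    refine mem_subgroupOf.mpr (subset_closure ⟨R, R.subtype.comp β.toMonoidHom, x, (mem_autGroup_iff F hRS).mp hβ, ?_⟩)
    simp
  by_contra hnot
  have hlt : R < S := lt_of_le_of_ne hRS (fun e => hnot e.ge)
  obtain ⟨w, hw, hwR⟩ := exists_normalizer_gt hS hlt
  have hwS : w ∈ S := hw.1
  have hwN : w ∈ normalizer (R : Set Ω) := hw.2
  have hwiS : w⁻¹ ∈ S := S.inv_mem hwS
  by_cases hp2 : p = 2
  · subst hp2
    have he4 : e = 4 := h2 rfl
    subst he4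
    let B : Subgroup (MulAut R) :=
      { carrier := {β | ∀ x ∈ H', β x ∈ zpowers x ∧ β⁻¹ x ∈ zpowers x}
        mul_mem' := by
          intro a b ha hb x hx
          constructor
          · obtain ⟨k, hk⟩ := mem_zpowers_iff.mp (hb x hx).1
            rw [MulAut.mul_apply, ← hk, map_zpow]
            exact zpow_mem (ha x hx).1 k
          · obtain ⟨k, hk⟩ := mem_zpowers_iff.mp (ha x hx).2
            rw [mul_inv_rev, MulAut.mul_apply, ← hk, map_zpow]
            exact zpow_mem (hb x hx).2 k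
        one_mem' := by
          intro x _
          simp only [inv_one, MulAut.one_apply]
          exact ⟨mem_zpowers x, mem_zpowers x⟩
        inv_mem' := by
          intro a ha x hx
          simp only [inv_inv]
          exact ⟨(ha x hx).2, (ha x hx).1⟩ }
    refine hwR (mem_of_normal_coprime hS F hC hR B ?_ ?_ hwS hwN ?_)
    · intro γ hγ β hβ x hx
      have hy : γ⁻¹ x ∈ H' := hinv _ (inv_mem hγ) x hx
      obtain ⟨k1, hk1⟩ := mem_zpowers_iff.mp (hβ _ hy).1
      obtain ⟨k2, hk2⟩ := mem_zpowers_iff.mp (hβ _ hy).2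
      constructor
      · refine mem_zpowers_iff.mpr ⟨k1, ?_⟩
        rw [MulAut.mul_apply, MulAut.mul_apply, ← hk1, map_zpow]
        simp
      · refine mem_zpowers_iff.mpr ⟨k2, ?_⟩
        have e1 : (γ * β * γ⁻¹)⁻¹ = γ * β⁻¹ * γ⁻¹ := by simp [mul_assoc]
        rw [e1, MulAut.mul_apply, MulAut.mul_apply, ← hk2, map_zpow]
        simp
    · intro β hβ hβA hcop
      refine htriv β hβA hcop (hcomm β hβA) fun x hx => ?_
      exact fix_of_odd_of_zpowers β hcop (hsm x hx) (hβ x hx).1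
    · have hfoc : ∀ x ∈ H', (x : Ω) ∈ F.focalSubgroup ∧ (x : Ω) ^ 4 = 1 := by
        intro x hx
        refine ⟨mem_subgroupOf.mp (hH'T hx), ?_⟩
        have := congrArg (fun y : R => (y : Ω)) (hsm x hx)
        simpa using this
      intro x hx
      constructor
      · obtain ⟨k, hk⟩ := mem_zpowers_iff.mp (hnorm _ (hfoc x hx).1 (Or.inr ⟨rfl, (hfoc x hx).2⟩) w hwS)
        refine mem_zpowers_iff.mpr ⟨k, Subtype.ext ?_⟩
        simpa using hk
      · rw [conjAut_inv]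
        obtain ⟨k, hk⟩ := mem_zpowers_iff.mp (hnorm _ (hfoc x hx).1 (Or.inr ⟨rfl, (hfoc x hx).2⟩) w⁻¹ hwiS)
        refine mem_zpowers_iff.mpr ⟨k, Subtype.ext ?_⟩
        simpa using hk
  · have hep : e = p := h1 hp2
    rw [hep] at hsm
    let B : Subgroup (MulAut R) :=
      { carrier := {β | ∀ x ∈ H', β x = x}
        mul_mem' := by
          intro a b ha hb x hx
          rw [MulAut.mul_apply, hb x hx, ha x hx]
        one_mem' := fun x _ => rfl
        inv_mem' := by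
          intro a ha x hx
          have h := ha x hx
          calc a⁻¹ x = a⁻¹ (a x) := by rw [h]
            _ = x := by simp }
    have hfoc : ∀ x ∈ H', (x : Ω) ∈ F.focalSubgroup ∧ (x : Ω) ^ p = 1 := by
      intro x hx
      refine ⟨mem_subgroupOf.mp (hH'T hx), ?_⟩
      have := congrArg (fun y : R => (y : Ω)) (hsm x hx)
      simpa using this
    refine hwR (mem_of_normal_coprime hS F hC hR B ?_ ?_ hwS hwN ?_)
    · intro γ hγ β hβ x hx
      have hy := hinv _ (inv_mem hγ) x hx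
      show (γ * β * γ⁻¹) x = x
      rw [MulAut.mul_apply, MulAut.mul_apply, hβ _ hy]
      simp
    · intro β hβ hβA hcop
      exact htriv β hβA hcop (hcomm β hβA) hβ
    · intro x hx
      obtain ⟨a, ha⟩ := hS ⟨w, hwS⟩
      have ha' : w ^ p ^ a = 1 := by
        have := congrArg Subtype.val ha
        simpa using this
      exact Subtype.ext (conj_eq_of_prime_order (hfoc x hx).2 ha'
        (hnorm _ (hfoc x hx).1 (Or.inl (hfoc x hx).2) w hwS))

end CfsgLib.Fusion
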